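import Groth.Agent.SiteBase.KFlat.Assoc
import Groth.Agent.SiteBase.PullTensor.Iso
import Groth.Agent.GrothSS.Supports
import Mathlib.Algebra.Category.ModuleCat.Sheaf.PullbackFree
import Mathlib.CategoryTheory.Adjunction.FullyFaithful

/-! # Invertible modules on ringed sites -/

set_option autoImplicit false
set_option linter.all false
set_option backward.isDefEq.respectTransparency false
set_option backward.defeqAttrib.useBackward true

noncomputable section

universe u

open CategoryTheory Limits MonoidalCategory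

namespace Groth.Agent.InvMod

open Groth.Agent.SiteBase

variable {C : Type u} [SmallCategory C] {J : GrothendieckTopology C} {O : Sheaf J CommRingCat.{u}}

/-- tensoring with a tensor product -/
def tensorBiCompIso (L N : ModSite.Mod O) :
    (ModSite.tensorBi O).obj (((ModSite.tensorBi O).obj L).obj N) ≅
      (ModSite.tensorBi O).obj N ⋙ (ModSite.tensorBi O).obj L :=
  NatIso.ofComponents (fun D => (((KFlat.assocBi (O := O)).app L).app N).app D)
    (fun {D D'} d => (((KFlat.assocBi (O := O)).app L).app N).hom.naturality d)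

/-- tensoring with the unit -/
def tensorBiUnitIso : (ModSite.tensorBi O).obj (ModSite.unit O) ≅ 𝟭 _ :=
  braidIso (ModSite.unit O) ≪≫ tensorUnitObjIso O

theorem isEquivalence_tensor {L N : ModSite.Mod O} (hL : ((ModSite.tensorBi O).obj L).IsEquivalence)
    (hN : ((ModSite.tensorBi O).obj N).IsEquivalence) :
    ((ModSite.tensorBi O).obj (((ModSite.tensorBi O).obj L).obj N)).IsEquivalence :=
  Functor.isEquivalence_of_iso (tensorBiCompIso L N).symm

theorem isEquivalence_of_unit {L D : ModSite.Mod O}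
    (e : ((ModSite.tensorBi O).obj L).obj D ≅ ModSite.unit O) :
    ((ModSite.tensorBi O).obj L).IsEquivalence := by
  let e' : ((ModSite.tensorBi O).obj D).obj L ≅ ModSite.unit O := (braidIso D).app L ≪≫ e
  let a : (ModSite.tensorBi O).obj D ⋙ (ModSite.tensorBi O).obj L ≅ 𝟭 _ :=
    (tensorBiCompIso L D).symm ≪≫ (ModSite.tensorBi O).mapIso e ≪≫ tensorBiUnitIso
  let b : (ModSite.tensorBi O).obj L ⋙ (ModSite.tensorBi O).obj D ≅ 𝟭 _ :=
    (tensorBiCompIso D L).symm ≪≫ (ModSite.tensorBi O).mapIso e' ≪≫ tensorBiUnitIso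
  exact (CategoryTheory.Equivalence.mk ((ModSite.tensorBi O).obj L) ((ModSite.tensorBi O).obj D) b.symm a).isEquivalence_functor

theorem isEquivalence_flip {L : ModSite.Mod O} (hL : ((ModSite.tensorBi O).obj L).IsEquivalence) :
    ((ModSite.tensorBi O).flip.obj L).IsEquivalence :=
  Functor.isEquivalence_of_iso (braidIso L)

theorem invertible_dual {L : ModSite.Mod O} (hL : ((ModSite.tensorBi O).obj L).IsEquivalence)
    [ModSite.HasSheafHom L] :
    ((ModSite.tensorBi O).obj ((ModSite.sheafHom L).obj (ModSite.unit O))).IsEquivalence ∧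
      IsIso ((ModSite.sheafHomAdj L).counit.app (ModSite.unit O)) := by
  haveI := isEquivalence_flip hL
  haveI := (ModSite.sheafHomAdj L).isEquivalence_right_of_isEquivalence_left
  refine ⟨isEquivalence_of_unit (D := L) ?_, inferInstance⟩
  exact asIso ((ModSite.sheafHomAdj L).counit.app (ModSite.unit O))

variable {D : Type u} [SmallCategory D] {K : GrothendieckTopology D} {O' : Sheaf K CommRingCat.{u}}

theorem isEquivalence_pull (f : ModSite.RMor O O') [f.fn.Final] {L : ModSite.Mod O'}
    (hL : ((ModSite.tensorBi O').obj L).IsEquivalence) :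
    ((ModSite.tensorBi O).obj (f.pull.obj L)).IsEquivalence := by
  obtain ⟨N, ⟨e⟩⟩ := Functor.EssSurj.mem_essImage (F := (ModSite.tensorBi O').obj L) (ModSite.unit O')
  exact isEquivalence_of_unit (D := f.pull.obj N)
    ((PullTensor.pullTensorIso f L N).symm ≪≫ f.pull.mapIso e ≪≫ asIso (SheafOfModules.pullbackObjUnitToUnit.{u} f.sharpR))

variable (U : C) [ModSite.HasPushOver O U] (M : ModSite.Mod O)

lemma exists_quotTensor (X : ModSite.Mod O) :
    ∃ φ : (ModSite.quotOn O U).obj (((ModSite.tensorBi O).flip.obj M).obj X) ⟶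
      ((ModSite.tensorBi O).flip.obj M).obj ((ModSite.quotOn O U).obj X), IsIso φ ∧
        cokernel.π ((ModSite.extZeroAdj O U).counit.app _) ≫ φ = GrothSS.qL U M X := by
  let T := ((ModSite.tensorBi O).flip.obj M).obj X
  let q : T ⟶ (ModSite.quotOn O U).obj T := cokernel.π ((ModSite.extZeroAdj O U).counit.app T)
  have h₁ : (ModSite.extZeroAdj O U).counit.app T ≫ GrothSS.qL U M X = 0 :=
    GrothSS.eq_zero_to_null U (GrothSS.isNullOn_tensor_left U (ExtSupp.isNullOn_quotOn O U X) M) (Iso.refl _) _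
  have h₂ : ((ModSite.tensorBi O).flip.obj M).map ((ModSite.extZeroAdj O U).counit.app X) ≫ q = 0 :=
    GrothSS.eq_zero_to_null U (ExtSupp.isNullOn_quotOn O U T)
      ((extZeroTensorIso (U := U) M).app ((ModSite.restr O U).obj X)).symm _
  obtain ⟨b, hb⟩ := GrothSS.exists_desc_map ((ModSite.tensorBi O).flip.obj M)
    ((ModSite.extZeroAdj O U).counit.app X) q h₂
  haveI : Epi (GrothSS.qL U M X) := Functor.map_epi _ (cokernel.π ((ModSite.extZeroAdj O U).counit.app X))
  haveI : Epi q := inferInstanceAs (Epi (cokernel.π _))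
  refine ⟨cokernel.desc _ _ h₁, ⟨b, ?_, ?_⟩, cokernel.π_desc _ _ _⟩
  · exact (cancel_epi q).1 ((cokernel.π_desc_assoc _ _ h₁ _).trans (hb.trans (Category.comp_id _).symm))
  · exact (cancel_epi (GrothSS.qL U M X)).1 ((Category.assoc _ _ _).symm.trans
      ((congrArg (· ≫ cokernel.desc _ _ h₁) hb).trans ((cokernel.π_desc _ _ h₁).trans (Category.comp_id _).symm)))

lemma natural_quotTensor {X Y : ModSite.Mod O} (g : X ⟶ Y)
    (φX : (ModSite.quotOn O U).obj (((ModSite.tensorBi O).flip.obj M).obj X) ⟶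
      ((ModSite.tensorBi O).flip.obj M).obj ((ModSite.quotOn O U).obj X))
    (φY : (ModSite.quotOn O U).obj (((ModSite.tensorBi O).flip.obj M).obj Y) ⟶
      ((ModSite.tensorBi O).flip.obj M).obj ((ModSite.quotOn O U).obj Y))
    (hX : cokernel.π ((ModSite.extZeroAdj O U).counit.app _) ≫ φX = GrothSS.qL U M X)
    (hY : cokernel.π ((ModSite.extZeroAdj O U).counit.app _) ≫ φY = GrothSS.qL U M Y) :
    (ModSite.quotOn O U).map (((ModSite.tensorBi O).flip.obj M).map g) ≫ φY =
      φX ≫ ((ModSite.tensorBi O).flip.obj M).map ((ModSite.quotOn O U).map g) := by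
  let F := (ModSite.tensorBi O).flip.obj M
  let q (Z : ModSite.Mod O) : Z ⟶ (ModSite.quotOn O U).obj Z := cokernel.π ((ModSite.extZeroAdj O U).counit.app Z)
  have hq : ∀ {Z W : ModSite.Mod O} (k : Z ⟶ W), q Z ≫ (ModSite.quotOn O U).map k = k ≫ q W :=
    fun k => cokernel.π_desc _ _ _
  haveI : Epi (q (F.obj X)) := inferInstanceAs (Epi (cokernel.π _))
  rw [← cancel_epi (q (F.obj X))]
  refine ((Category.assoc _ _ _).symm.trans (congrArg (· ≫ φY) (hq (F.map g)))).trans ?_
  refine ((Category.assoc _ _ _).trans (congrArg (F.map g ≫ ·) hY)).trans ?_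
  refine Eq.trans ?_ ((congrArg (· ≫ F.map ((ModSite.quotOn O U).map g)) hX).symm.trans (Category.assoc _ _ _))
  exact ((F.map_comp _ _).symm.trans (congrArg F.map (hq g).symm)).trans (F.map_comp _ _)

/-- `(X ⊗ M)/(X ⊗ M)_U ≅ (X/X_U) ⊗ M` -/
def quotTensorNatIso :
    (ModSite.tensorBi O).flip.obj M ⋙ ModSite.quotOn O U ≅
      ModSite.quotOn O U ⋙ (ModSite.tensorBi O).flip.obj M :=
  NatIso.ofComponents (fun X => @asIso _ _ _ _ (exists_quotTensor U M X).choose (exists_quotTensor U M X).choose_spec.1)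
    (fun {X Y} g => natural_quotTensor U M g _ _ (exists_quotTensor U M X).choose_spec.2 (exists_quotTensor U M Y).choose_spec.2)

theorem nonempty_sheafHom_sectOn [ModSite.HasSheafHom M]
    [ModSite.HasSheafHom ((ModSite.quotOn O U).obj M)] :
    Nonempty (ModSite.sheafHom M ⋙ ModSite.sectOn O U ≅ ModSite.sectOn O U ⋙ ModSite.sheafHom M) ∧
      Nonempty (ModSite.sheafHom M ⋙ ModSite.sectOn O U ≅ ModSite.sheafHom ((ModSite.quotOn O U).obj M)) :=
  ⟨⟨((GrothSS.quotSectAdj U).comp (ModSite.sheafHomAdj M)).rightAdjointUniq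
      (((ModSite.sheafHomAdj M).comp (GrothSS.quotSectAdj U)).ofNatIsoLeft (quotTensorNatIso U M))⟩,
    ⟨(GrothSS.sheafHomQuotIso U M).symm⟩⟩

end Groth.Agent.InvMod
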